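import Cfsg.Agent.H867.Max.Oct
import Cfsg.Agent.S1604
import Cfsg.Agent.S1605
import Cfsg.Agent.S1638
import Cfsg.Agent.S0360

/-!
# Five classes of maximal subgroups of the Mathieu group of degree 22

The stabilisers of a point, a hexad, a heptad and a duad (indices 22, 77, 176, 231) are maximal,
and a subgroup of order 11 lies in none of them.
-/

set_option autoImplicit false

open scoped Pointwise

namespace Cfsg.Agent.H867.Max.MTwentyTwo

open Cfsg MulAction Cfsg.Agent.H940.MaxCls Cfsg.Agent.H867.Max.Sub Cfsg.Agent.H867.Max.Oct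

theorem card_G : Nat.card Spor.M22 = 443520 := Cfsg.Agent.SporadicA.MathieuRecog.card_M22

theorem fin_G : Finite Spor.M22 := Nat.finite_of_card_ne_zero (by rw [card_G]; norm_num)

theorem n0 : (none : GolayPt) ≠ some 0 := by simp

theorem point : IsCoatom (stabilizer Spor.M22 (some 1 : GolayPt)) ∧
    (stabilizer Spor.M22 (some 1 : GolayPt)).index = 22 := by
  have := fin_G
  have h := coatom_of_classes (G := Spor.M22) (o := (some 1 : GolayPt))
    (O := {x | x ≠ none ∧ x ≠ some 0})
    (t := fun _ => 0) (L := [(0, 21)]) (Set.toFinite _) card_G ?_ ?_ (by decide) ?_ ?_ ?_ (by decide)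
  · exact ⟨h.1, h.2⟩
  · intro g
    constructor
    · intro h
      have h1 : (g : Equiv.Perm GolayPt) (some 1) = (g : Equiv.Perm GolayPt) none := by
        rw [none_of_22 g]; exact h
      exact absurd ((g : Equiv.Perm GolayPt).injective h1) (by simp)
    · intro h
      have h1 : (g : Equiv.Perm GolayPt) (some 1) = (g : Equiv.Perm GolayPt) (some 0) := by
        rw [zero_of_22 g]; exact h
      exact absurd ((g : Equiv.Perm GolayPt).injective h1) (by decide)
  · intro x _ _
    simp
  · intro e he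
    rw [List.mem_singleton] at he
    subst he
    have : {x : GolayPt | x ∈ {x : GolayPt | x ≠ none ∧ x ≠ some 0} ∧ x ≠ some 1 ∧ 0 = (0, 21).1} =
        ((Finset.univ.filter fun x : GolayPt => (x ≠ none ∧ x ≠ some 0) ∧ x ≠ some 1 : Finset GolayPt) :
          Set GolayPt) := by
      ext x; simp
    rw [this, Set.ncard_coe_finset]
    decide
  · intro x hx y hy hxo hyo _
    obtain ⟨g, hg, g1, g2, g3, g4⟩ := map4 (a := none) (b := some 0) (c := some 1) (d := x)
      (a' := none) (b' := some 0) (c' := some 1) (d' := y) (by simp) (by simp) (Ne.symm hx.1)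
      (by decide) (Ne.symm hx.2) (Ne.symm hxo) (by simp) (by simp) (Ne.symm hy.1)
      (by decide) (Ne.symm hy.2) (Ne.symm hyo)
    exact ⟨mk22 g hg g1 g2, g3, g4⟩
  · obtain ⟨g, hg, g1, g2, g3, -⟩ := map4 (a := none) (b := some 0) (c := some 1) (d := some 2)
      (a' := none) (b' := some 0) (c' := some 2) (d' := some 1) (by simp) (by simp) (by simp)
      (by decide) (by decide) (by decide) (by simp) (by simp) (by simp)
      (by decide) (by decide) (by decide)
    refine ⟨mk22 g hg g1 g2, fun h => ?_⟩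
    have h1 : g (some 1) = some 1 := h
    rw [g3] at h1
    exact absurd h1 (by decide)

theorem hexad {o : Finset GolayPt} (ho : o ∈ octads) (hx : none ∈ o) (hx0 : some 0 ∈ o) :
    IsCoatom (stabilizer Spor.M22 o) ∧ (stabilizer Spor.M22 o).index = 77 := by
  have := fin_G
  have h8 := card8 ho
  have h := coatom_of_classes (G := Spor.M22) (o := o)
    (O := {x | x ∈ octads ∧ none ∈ x ∧ some 0 ∈ x})
    (t := fun x => (o ∩ x).card) (L := [(2, 16), (4, 60)]) (Set.toFinite _) card_G ?_ ?_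
    (by decide) ?_ ?_ (move22 (by omega) (by omega)) (by decide)
  · exact ⟨h.1, h.2⟩
  · intro g
    exact ⟨smul_octad (M24_of_22 g) ho, (mem_smul_of_fix (none_of_22 g)).2 hx,
      (mem_smul_of_fix (zero_of_22 g)).2 hx0⟩
  · rintro x ⟨h1, h2, _⟩ hne
    have h3 : (o ∩ x).card ≠ 0 := by
      rw [Finset.card_ne_zero]
      exact ⟨none, Finset.mem_inter.2 ⟨hx, h2⟩⟩
    rcases inter_octad ho h1 hne with h | h | h
    · exact absurd h h3
    · simp [h]
    · simp [h]
  · obtain ⟨n2, n4, -⟩ := Cfsg.Agent.S1604.result none (some 0) n0 o o o ho ho ho ⟨hx, hx, hx⟩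
      ⟨hx0, hx0, hx0⟩ rfl
    intro e he
    have key : ∀ k : ℕ, k ≠ 8 → {x : Finset GolayPt |
        x ∈ {x : Finset GolayPt | x ∈ octads ∧ none ∈ x ∧ some 0 ∈ x} ∧ x ≠ o ∧ (o ∩ x).card = k} =
        {x : Finset GolayPt | x ∈ octads ∧ none ∈ x ∧ some 0 ∈ x ∧ (o ∩ x).card = k} := by
      intro k hk
      ext x
      constructor
      · rintro ⟨⟨h1, h2, h3⟩, -, h4⟩
        exact ⟨h1, h2, h3, h4⟩
      · rintro ⟨h1, h2, h3, h4⟩
        refine ⟨⟨h1, h2, h3⟩, ?_, h4⟩
        rintro rfl
        rw [Finset.inter_self, h8] at h4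
        exact hk h4.symm
    simp only [List.mem_cons, List.not_mem_nil, or_false] at he
    rcases he with rfl | rfl
    · rw [key 2 (by norm_num)]; exact n2
    · rw [key 4 (by norm_num)]; exact n4
  · rintro x ⟨h1, h2, h2'⟩ y ⟨h3, h4, h4'⟩ _ _ hxy
    obtain ⟨-, -, g, hg, g1, g2, g3, g4⟩ := Cfsg.Agent.S1604.result none (some 0) n0 o x y ho h1 h3
      ⟨hx, h2, h4⟩ ⟨hx0, h2', h4'⟩ hxy
    exact ⟨mk22 g hg g1 g2, g3, g4⟩

theorem heptad {o : Finset GolayPt} (ho : o ∈ octads) (hx : none ∈ o) (hx0 : some 0 ∉ o) :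
    IsCoatom (stabilizer Spor.M22 o) ∧ (stabilizer Spor.M22 o).index = 176 := by
  have := fin_G
  have h8 := card8 ho
  obtain ⟨-, -, h3⟩ := Cfsg.Agent.S1605.result none (some 0) n0
  obtain ⟨n2, n4, tr⟩ := h3 o ⟨ho, hx, hx0⟩
  have h := coatom_of_classes (G := Spor.M22) (o := o)
    (O := {x | x ∈ octads ∧ none ∈ x ∧ some 0 ∉ x})
    (t := fun x => (o ∩ x).card) (L := [(2, 70), (4, 105)]) (Set.toFinite _) card_G ?_ ?_
    (by decide) ?_ ?_ (move22 (by omega) (by omega)) (by decide)
  · exact ⟨h.1, h.2⟩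
  · intro g
    exact ⟨smul_octad (M24_of_22 g) ho, (mem_smul_of_fix (none_of_22 g)).2 hx,
      fun h => hx0 ((mem_smul_of_fix (zero_of_22 g)).1 h)⟩
  · rintro x ⟨h1, h2, _⟩ hne
    have h3 : (o ∩ x).card ≠ 0 := by
      rw [Finset.card_ne_zero]
      exact ⟨none, Finset.mem_inter.2 ⟨hx, h2⟩⟩
    rcases inter_octad ho h1 hne with h | h | h
    · exact absurd h h3
    · simp [h]
    · simp [h]
  · intro e he
    have key : ∀ k : ℕ, k ≠ 8 → {x : Finset GolayPt |
        x ∈ {x : Finset GolayPt | x ∈ octads ∧ none ∈ x ∧ some 0 ∉ x} ∧ x ≠ o ∧ (o ∩ x).card = k} =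
        {x : Finset GolayPt | (x ∈ octads ∧ none ∈ x ∧ some 0 ∉ x) ∧ (o ∩ x).card = k} := by
      intro k hk
      ext x
      constructor
      · rintro ⟨h1, -, h4⟩
        exact ⟨h1, h4⟩
      · rintro ⟨h1, h4⟩
        refine ⟨h1, ?_, h4⟩
        rintro rfl
        rw [Finset.inter_self, h8] at h4
        exact hk h4.symm
    simp only [List.mem_cons, List.not_mem_nil, or_false] at he
    rcases he with rfl | rfl
    · rw [key 2 (by norm_num)]; exact n2
    · rw [key 4 (by norm_num)]; exact n4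
  · rintro x h1 y h3 _ _ hxy
    obtain ⟨g, hg, g1, g2, g3, g4⟩ := tr x y h1 h3 hxy
    exact ⟨mk22 g hg g1 g2, g3, g4⟩

/-- the base duad -/
def sd : Finset GolayPt := {some 1, some 2}

open scoped Classical in
/-- the type of a duad: meets `sd` in a point; in a common hexad with it; other -/
noncomputable def ty (x : Finset GolayPt) : ℕ :=
  if (sd ∩ x).card = 1 then 1 else
    if ∃ o ∈ octads, none ∈ o ∧ some 0 ∈ o ∧ sd ∪ x ⊆ o then 2 else 3

theorem ty_one {x : Finset GolayPt} : ty x = 1 ↔ (sd ∩ x).card = 1 := by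
  unfold ty
  by_cases h : (sd ∩ x).card = 1
  · rw [if_pos h]; exact ⟨fun _ => h, fun _ => rfl⟩
  · rw [if_neg h]
    refine ⟨fun h1 => ?_, fun h1 => absurd h1 h⟩
    by_cases h2 : ∃ o ∈ octads, none ∈ o ∧ some 0 ∈ o ∧ sd ∪ x ⊆ o
    · rw [if_pos h2] at h1; exact absurd h1 (by norm_num)
    · rw [if_neg h2] at h1; exact absurd h1 (by norm_num)

theorem ty_two {x : Finset GolayPt} : ty x = 2 ↔
    (sd ∩ x).card ≠ 1 ∧ ∃ o ∈ octads, none ∈ o ∧ some 0 ∈ o ∧ sd ∪ x ⊆ o := by
  unfold ty
  by_cases h : (sd ∩ x).card = 1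
  · rw [if_pos h]; exact ⟨fun h1 => absurd h1 (by norm_num), fun h1 => absurd h h1.1⟩
  · rw [if_neg h]
    by_cases h2 : ∃ o ∈ octads, none ∈ o ∧ some 0 ∈ o ∧ sd ∪ x ⊆ o
    · rw [if_pos h2]; exact ⟨fun _ => ⟨h, h2⟩, fun _ => rfl⟩
    · rw [if_neg h2]; exact ⟨fun h1 => absurd h1 (by norm_num), fun h1 => absurd h1.2 h2⟩

theorem ty_three {x : Finset GolayPt} : ty x = 3 ↔
    (sd ∩ x).card ≠ 1 ∧ ¬ ∃ o ∈ octads, none ∈ o ∧ some 0 ∈ o ∧ sd ∪ x ⊆ o := by
  unfold ty
  by_cases h : (sd ∩ x).card = 1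
  · rw [if_pos h]; exact ⟨fun h1 => absurd h1 (by norm_num), fun h1 => absurd h h1.1⟩
  · rw [if_neg h]
    by_cases h2 : ∃ o ∈ octads, none ∈ o ∧ some 0 ∈ o ∧ sd ∪ x ⊆ o
    · rw [if_pos h2]; exact ⟨fun h1 => absurd h1 (by norm_num), fun h1 => absurd h2 h1.2⟩
    · rw [if_neg h2]; exact ⟨fun _ => ⟨h, h2⟩, fun _ => rfl⟩

theorem ty_cases (x : Finset GolayPt) : ty x = 1 ∨ ty x = 2 ∨ ty x = 3 := by
  unfold ty
  split_ifs <;> simp

/-- the duads avoiding the two points -/
def Du : Set (Finset GolayPt) := {x | x.card = 2 ∧ none ∉ x ∧ some 0 ∉ x}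

theorem sd_mem : sd ∈ Du := by
  refine ⟨by decide, by decide, by decide⟩

theorem inter_lt {x : Finset GolayPt} (hx : x ∈ Du) (hne : x ≠ sd) : (sd ∩ x).card = 0 ∨ (sd ∩ x).card = 1 := by
  have h1 : (sd ∩ x).card ≤ 2 := (Finset.card_le_card Finset.inter_subset_right).trans hx.1.le
  have h2 : (sd ∩ x).card ≠ 2 := by
    intro h
    have h3 : sd ∩ x = sd := Finset.eq_of_subset_of_card_le Finset.inter_subset_left (by rw [h]; decide)
    have h4 : sd ∩ x = x := Finset.eq_of_subset_of_card_le Finset.inter_subset_right (by rw [h, hx.1])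
    exact hne (h4.symm.trans h3)
  omega

theorem duad : IsCoatom (stabilizer Spor.M22 sd) ∧ (stabilizer Spor.M22 sd).index = 231 := by
  have := fin_G
  obtain ⟨n30, n160, tr⟩ := Cfsg.Agent.S1638.result none (some 0) n0 sd sd_mem
  have h := coatom_of_classes (G := Spor.M22) (o := sd) (O := Du) (t := ty)
    (L := [(1, 40), (2, 30), (3, 160)]) (Set.toFinite _) card_G ?_ ?_
    (by decide) ?_ ?_ ?_ (by decide)
  · exact ⟨h.1, h.2⟩
  · intro g
    refine ⟨?_, fun h => sd_mem.2.1 ((mem_smul_of_fix (none_of_22 g)).1 h),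
      fun h => sd_mem.2.2 ((mem_smul_of_fix (zero_of_22 g)).1 h)⟩
    rw [Finset.card_smul_finset]; decide
  · intro x _ _
    rcases ty_cases x with h | h | h <;> simp [h]
  · intro e he
    simp only [List.mem_cons, List.not_mem_nil, or_false] at he
    rcases he with rfl | rfl | rfl
    · have h1 : {x | x ∈ Du ∧ x ≠ sd ∧ ty x = (1, 40).1} =
          (((Finset.univ.powersetCard 2).filter fun x : Finset GolayPt =>
            none ∉ x ∧ some 0 ∉ x ∧ (sd ∩ x).card = 1 : Finset (Finset GolayPt)) :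
            Set (Finset GolayPt)) := by
        ext x
        simp only [Finset.coe_filter, Finset.mem_powersetCard, Set.mem_setOf_eq]
        constructor
        · rintro ⟨h1, -, h3⟩
          exact ⟨⟨Finset.subset_univ _, h1.1⟩, h1.2.1, h1.2.2, ty_one.1 h3⟩
        · rintro ⟨⟨-, h1⟩, h2, h3, h4⟩
          refine ⟨⟨h1, h2, h3⟩, ?_, ?_⟩
          · rintro rfl
            rw [Finset.inter_self] at h4
            exact absurd h4 (by decide)
          · exact ty_one.2 h4
      rw [h1, Set.ncard_coe_finset]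
      decide +kernel
    · rw [← n30]
      congr 1
      ext x
      constructor
      · rintro ⟨h1, h2, h3⟩
        obtain ⟨h4, h5⟩ := ty_two.1 h3
        refine ⟨h1, ?_, h5⟩
        rw [Finset.disjoint_iff_inter_eq_empty, ← Finset.card_eq_zero]
        exact (inter_lt h1 h2).resolve_right h4
      · rintro ⟨h1, h2, h3⟩
        rw [Finset.disjoint_iff_inter_eq_empty] at h2
        refine ⟨h1, ?_, ?_⟩
        · rintro rfl
          rw [Finset.inter_self] at h2
          exact absurd h2 (by decide)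
        · exact ty_two.2 ⟨by rw [h2]; decide, h3⟩
    · rw [← n160]
      congr 1
      ext x
      constructor
      · rintro ⟨h1, h2, h3⟩
        obtain ⟨h4, h5⟩ := ty_three.1 h3
        refine ⟨h1, ?_, h5⟩
        rw [Finset.disjoint_iff_inter_eq_empty, ← Finset.card_eq_zero]
        exact (inter_lt h1 h2).resolve_right h4
      · rintro ⟨h1, h2, h3⟩
        rw [Finset.disjoint_iff_inter_eq_empty] at h2
        refine ⟨h1, ?_, ?_⟩
        · rintro rfl
          rw [Finset.inter_self] at h2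
          exact absurd h2 (by decide)
        · exact ty_three.2 ⟨by rw [h2]; decide, h3⟩
  · intro x hx y hy hxo hyo hxy
    -- duads meeting `sd` in a point are not in a common hexad question: compare both data
    by_cases hx1 : (sd ∩ x).card = 1
    · have hy1 : (sd ∩ y).card = 1 := ty_one.1 (hxy.symm.trans (ty_one.2 hx1))
      -- write `x = {a, c}`, `y = {a', c'}` with `a, a'` in `sd`
      have shape : ∀ x ∈ Du, (sd ∩ x).card = 1 → ∃ a b c : GolayPt, sd = {a, b} ∧ a ≠ b ∧
          x = {a, c} ∧ c ≠ none ∧ c ≠ some 0 ∧ c ≠ a ∧ c ≠ b ∧ a ≠ none ∧ a ≠ some 0 ∧ b ≠ none ∧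
          b ≠ some 0 := by
        intro x hx h1
        obtain ⟨a, ha⟩ := Finset.card_eq_one.1 h1
        have ha' : a ∈ sd ∩ x := by rw [ha]; exact Finset.mem_singleton_self a
        have has := (Finset.mem_inter.1 ha').1
        have hax := (Finset.mem_inter.1 ha').2
        obtain ⟨p, q, hpq, hxpq⟩ := Finset.card_eq_two.1 hx.1
        obtain ⟨c, hc, hxc⟩ : ∃ c, c ≠ a ∧ x = {a, c} := by
          rw [hxpq, Finset.mem_insert, Finset.mem_singleton] at hax
          rcases hax with rfl | rfl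
          · exact ⟨q, hpq.symm, hxpq⟩
          · exact ⟨p, hpq, by rw [hxpq, Finset.pair_comm]⟩
        have hcx : c ∈ x := by rw [hxc]; simp
        have hcs : c ∉ sd := by
          intro h
          have : c ∈ sd ∩ x := Finset.mem_inter.2 ⟨h, hcx⟩
          rw [ha, Finset.mem_singleton] at this
          exact hc this
        have hcn : c ≠ none := fun h => hx.2.1 (h ▸ hcx)
        have hc0 : c ≠ some 0 := fun h => hx.2.2 (h ▸ hcx)
        have hs : a = some 1 ∨ a = some 2 := by
          simpa [sd] using has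
        have hcs' : c ≠ some 1 ∧ c ≠ some 2 := by
          simpa [sd] using hcs
        rcases hs with rfl | rfl
        · exact ⟨some 1, some 2, c, rfl, by decide, hxc, hcn, hc0, hcs'.1, hcs'.2, by simp,
            by decide, by simp, by decide⟩
        · exact ⟨some 2, some 1, c, by decide, by decide, hxc, hcn, hc0, hcs'.2, hcs'.1, by simp,
            by decide, by simp, by decide⟩
      obtain ⟨a, b, c, hs, hab, rfl, c1, c2, c3, c4, a1, a2, b1, b2⟩ := shape x hx hx1
      obtain ⟨a', b', c', hs', hab', rfl, c1', c2', c3', c4', a1', a2', b1', b2'⟩ := shape y hy hy1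
      obtain ⟨g, hg⟩ := Cfsg.Agent.SporadicStructure.M23Index253.exists_map Cfsg.Agent.S0366.result
        (by norm_num : 5 ≤ 5) ![none, some 0, a, b, c] ![none, some 0, a', b', c']
        (by
          intro i j; fin_cases i <;> fin_cases j <;>
            simp [a1, a2, b1, b2, c1, c2, c3, c4, hab, a1.symm, a2.symm, b1.symm, b2.symm, c1.symm,
              c2.symm, c3.symm, c4.symm, hab.symm])
        (by
          intro i j; fin_cases i <;> fin_cases j <;>
            simp [a1', a2', b1', b2', c1', c2', c3', c4', hab', a1'.symm, a2'.symm, b1'.symm,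
              b2'.symm, c1'.symm, c2'.symm, c3'.symm, c4'.symm, hab'.symm])
      have g1 : (g : Equiv.Perm GolayPt) none = none := hg 0
      have g2 : (g : Equiv.Perm GolayPt) (some 0) = some 0 := hg 1
      have g3 : (g : Equiv.Perm GolayPt) a = a' := hg 2
      have g4 : (g : Equiv.Perm GolayPt) b = b' := hg 3
      have g5 : (g : Equiv.Perm GolayPt) c = c' := hg 4
      have pair : ∀ p q : GolayPt, (g : Equiv.Perm GolayPt) • ({p, q} : Finset GolayPt) =
          {(g : Equiv.Perm GolayPt) p, (g : Equiv.Perm GolayPt) q} := by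
        intro p q
        rw [Finset.smul_finset_insert, Finset.smul_finset_singleton]
        rfl
      refine ⟨mk22 g g.2 g1 g2, ?_, ?_⟩
      · show (g : Equiv.Perm GolayPt) • sd = sd
        conv_lhs => rw [hs]
        rw [pair, g3, g4, ← hs']
      · show (g : Equiv.Perm GolayPt) • ({a, c} : Finset GolayPt) = {a', c'}
        rw [pair, g3, g5]
    · have hy1 : (sd ∩ y).card ≠ 1 := fun hy1 => hx1 (ty_one.1 (hxy.trans (ty_one.2 hy1)))
      have hx0 := (inter_lt hx hxo).resolve_right hx1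
      have hy0 := (inter_lt hy hyo).resolve_right hy1
      obtain ⟨g, hg, g1, g2, g3, g4⟩ := tr x y hx hy hxo hyo (hx0.trans hy0.symm)
        ⟨fun h => (ty_two.1 (hxy.symm.trans (ty_two.2 ⟨hx1, h⟩))).2,
          fun h => (ty_two.1 (hxy.trans (ty_two.2 ⟨hy1, h⟩))).2⟩
      exact ⟨mk22 g hg g1 g2, g3, g4⟩
  · -- an element moving the duad
    obtain ⟨g, hg, g1, g2, g3, -⟩ := map4 (a := none) (b := some 0) (c := some 1) (d := some 3)
      (a' := none) (b' := some 0) (c' := some 3) (d' := some 1) (by simp) (by simp) (by simp)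
      (by decide) (by decide) (by decide) (by simp) (by simp) (by simp)
      (by decide) (by decide) (by decide)
    refine ⟨mk22 g hg g1 g2, fun h => ?_⟩
    have h1 : (some 3 : GolayPt) ∈ g • sd := (mem_smul_map g3).2 (by decide)
    have h2 : g • sd = sd := h
    rw [h2] at h1
    exact absurd h1 (by decide)

/-- **The row `M22`.** -/
theorem sep : Sep 5 Spor.M22 := by
  have := fin_G
  have : Fact (Nat.Prime 11) := ⟨by norm_num⟩
  obtain ⟨o₀, ho₀⟩ : octads.Nonempty :=
    Set.nonempty_of_ncard_ne_zero (by rw [Cfsg.Agent.S0360.result]; norm_num)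
  have h8 := card8 ho₀
  -- two points of the octad and a point outside
  obtain ⟨⟨a, ha, -⟩, d, hd, -⟩ := exists_in_out (s := o₀) (F := ∅) (by rw [h8]; decide) (by rw [h8]; decide)
  obtain ⟨⟨b, hb, hbF⟩, -⟩ := exists_in_out (s := o₀) (F := {a})
    (by rw [h8, Finset.card_singleton]; norm_num) (by rw [h8, Finset.card_singleton]; norm_num)
  rw [Finset.mem_singleton] at hbF
  have had : a ≠ d := fun h => hd (h ▸ ha)
  have hbd : b ≠ d := fun h => hd (h ▸ hb)
  obtain ⟨g, hg, g1, g2, -⟩ := map3 (a := a) (b := b) (c := d) (a' := none) (b' := some 0)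
    (c' := some 1) (Ne.symm hbF) had hbd (by simp) (by simp) (by decide)
  obtain ⟨k, hk, k1, k2, -⟩ := map3 (a := a) (b := d) (c := b) (a' := none) (b' := some 0)
    (c' := some 1) had (Ne.symm hbF) hbd.symm (by simp) (by simp) (by decide)
  obtain ⟨c1, i1⟩ := point
  obtain ⟨c2, i2⟩ := hexad (smul_octad hg ho₀) ((mem_smul_map g1).2 ha) ((mem_smul_map g2).2 hb)
  obtain ⟨c3, i3⟩ := heptad (smul_octad hk ho₀) ((mem_smul_map k1).2 ha)
    (fun h => hd ((mem_smul_map k2).1 h))
  obtain ⟨c4, i4⟩ := duad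
  obtain ⟨x, hxo⟩ := exists_prime_orderOf_dvd_card' (G := Spor.M22) 11 (by rw [card_G]; norm_num)
  have hR : Nat.card (Subgroup.zpowers x) = 11 := by rw [Nat.card_zpowers, hxo]
  have hRt : Subgroup.zpowers x ≠ ⊤ := by
    intro h
    rw [h, Subgroup.card_top, card_G] at hR
    norm_num at hR
  exact sep_five c1.1 c2.1 c3.1 c4.1 hRt
    (apart_of_index c1 c2 i1 i2 (by norm_num)) (apart_of_index c1 c3 i1 i3 (by norm_num))
    (apart_of_index c1 c4 i1 i4 (by norm_num)) (apart_of_card card_G c1 i1 hR (by norm_num))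
    (apart_of_index c2 c3 i2 i3 (by norm_num)) (apart_of_index c2 c4 i2 i4 (by norm_num))
    (apart_of_card card_G c2 i2 hR (by norm_num)) (apart_of_index c3 c4 i3 i4 (by norm_num))
    (apart_of_card card_G c3 i3 hR (by norm_num)) (apart_of_card card_G c4 i4 hR (by norm_num))

end Cfsg.Agent.H867.Max.MTwentyTwo
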