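import Cfsg.Agent.H867.Max.Oct
import Cfsg.Agent.H964.NoHall.RowsM
import Cfsg.Agent.S1607
import Cfsg.Agent.S1608
import Cfsg.Agent.S1639
import Cfsg.Agent.S1566
import Cfsg.Agent.S0361
import Cfsg.Agent.S0360
import Cfsg.Agent.SporadicStructure.DodecadRank

/-!
# Five classes of maximal subgroups of the Mathieu group of degree 23

The stabilisers of a point, a heptad, an octad and a dodecad (indices 23, 253, 506, 1288) are
maximal, and a subgroup of order 23 lies in none of them.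
-/

set_option autoImplicit false

open scoped Pointwise

namespace Cfsg.Agent.H867.Max.MTwentyThree

open Cfsg MulAction Cfsg.Agent.H940.MaxCls Cfsg.Agent.H867.Max.Sub Cfsg.Agent.H867.Max.Oct

theorem card_G : Nat.card Spor.M23 = 10200960 := Cfsg.Agent.SporadicA.MathieuRecog.card_M23

theorem fin_G : Finite Spor.M23 := Nat.finite_of_card_ne_zero (by rw [card_G]; norm_num)

theorem point : IsCoatom (stabilizer Spor.M23 (some 0 : GolayPt)) ∧
    (stabilizer Spor.M23 (some 0 : GolayPt)).index = 23 := by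
  have := fin_G
  have h := coatom_of_classes (G := Spor.M23) (o := (some 0 : GolayPt)) (O := {x | x ≠ none})
    (t := fun _ => 0) (L := [(0, 22)]) (Set.toFinite _) card_G ?_ ?_ (by decide) ?_ ?_ ?_ (by decide)
  · exact ⟨h.1, h.2⟩
  · intro g h
    have h1 : (g : Equiv.Perm GolayPt) (some 0) = (g : Equiv.Perm GolayPt) none := by
      rw [none_of_23 g]; exact h
    exact absurd ((g : Equiv.Perm GolayPt).injective h1) (by simp)
  · intro x _ _
    simp
  · intro e he
    rw [List.mem_singleton] at he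
    subst he
    have : {x : GolayPt | x ∈ {x : GolayPt | x ≠ none} ∧ x ≠ some 0 ∧ 0 = (0, 22).1} =
        ((Finset.univ.filter fun x : GolayPt => x ≠ none ∧ x ≠ some 0 : Finset GolayPt) : Set GolayPt) := by
      ext x; simp
    rw [this, Set.ncard_coe_finset]
    decide
  · intro x hx y hy hxo hyo _
    obtain ⟨g, hg, g1, g2, g3⟩ := map3 (a := none) (b := some 0) (c := x) (a' := none) (b' := some 0)
      (c' := y) (by simp) (Ne.symm hx) (Ne.symm hxo) (by simp) (Ne.symm hy) (Ne.symm hyo)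
    exact ⟨mk23 g hg g1, g2, g3⟩
  · obtain ⟨g, hg, g1, g2, -⟩ := map3 (a := none) (b := some 0) (c := some 1) (a' := none)
      (b' := some 1) (c' := some 0) (by simp) (by simp) (by decide) (by simp) (by simp) (by decide)
    refine ⟨mk23 g hg g1, fun h => ?_⟩
    have h1 : g (some 0) = some 0 := h
    rw [g2] at h1
    exact absurd h1 (by decide)

theorem heptad {o : Finset GolayPt} (ho : o ∈ octads) (hx : none ∈ o) :
    IsCoatom (stabilizer Spor.M23 o) ∧ (stabilizer Spor.M23 o).index = 253 := by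
  have := fin_G
  have h8 := card8 ho
  obtain ⟨n2, n4, tr⟩ := Cfsg.Agent.S1607.result none o ho hx
  have h := coatom_of_classes (G := Spor.M23) (o := o) (O := {x | x ∈ octads ∧ none ∈ x})
    (t := fun x => (o ∩ x).card) (L := [(2, 112), (4, 140)]) (Set.toFinite _) card_G ?_ ?_
    (by decide) ?_ ?_ (move23 (by omega) (by omega)) (by decide)
  · exact ⟨h.1, h.2⟩
  · intro g
    exact ⟨smul_octad (M24_of_23 g) ho, (mem_smul_of_fix (none_of_23 g)).2 hx⟩
  · rintro x ⟨h1, h2⟩ hne
    have h3 : (o ∩ x).card ≠ 0 := by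
      rw [Finset.card_ne_zero]
      exact ⟨none, Finset.mem_inter.2 ⟨hx, h2⟩⟩
    rcases inter_octad ho h1 hne with h | h | h
    · exact absurd h h3
    · simp [h]
    · simp [h]
  · intro e he
    have key : ∀ k : ℕ, k ≠ 8 → {x : Finset GolayPt | x ∈ {x : Finset GolayPt | x ∈ octads ∧ none ∈ x} ∧
        x ≠ o ∧ (o ∩ x).card = k} = {o' : Finset GolayPt | o' ∈ octads ∧ none ∈ o' ∧ (o ∩ o').card = k} := by
      intro k hk
      ext x
      constructor
      · rintro ⟨⟨h1, h2⟩, -, h3⟩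
        exact ⟨h1, h2, h3⟩
      · rintro ⟨h1, h2, h3⟩
        refine ⟨⟨h1, h2⟩, ?_, h3⟩
        rintro rfl
        rw [Finset.inter_self, h8] at h3
        exact hk h3.symm
    simp only [List.mem_cons, List.not_mem_nil, or_false] at he
    rcases he with rfl | rfl
    · rw [key 2 (by norm_num)]; exact n2
    · rw [key 4 (by norm_num)]; exact n4
  · rintro x ⟨h1, h2⟩ y ⟨h3, h4⟩ _ _ hxy
    obtain ⟨g, hg, g1, g2, g3⟩ := tr x y h1 h3 h2 h4 hxy
    exact ⟨mk23 g hg g1, g2, g3⟩

theorem dodecad {d : Finset GolayPt} (hd : d ∈ dodecads) (hx : none ∈ d) :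
    IsCoatom (stabilizer Spor.M23 d) ∧ (stabilizer Spor.M23 d).index = 1288 := by
  have := fin_G
  have h12 : d.card = 12 := hd.2
  obtain ⟨n4, n8, n6, tr⟩ := Cfsg.Agent.S1639.result none d hd hx
  have eq12 : ∀ e ∈ dodecads, (d ∩ e).card = 12 → e = d := by
    intro e he h
    have h1 : e.card = 12 := he.2
    have h2 : d ∩ e = d := Finset.eq_of_subset_of_card_le Finset.inter_subset_left (by omega)
    have h3 : d ∩ e = e := Finset.eq_of_subset_of_card_le Finset.inter_subset_right (by omega)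
    rw [← h3, h2]
  have h := coatom_of_classes (G := Spor.M23) (o := d) (O := {x | x ∈ dodecads ∧ none ∈ x})
    (t := fun x => (d ∩ x).card) (L := [(4, 165), (8, 330), (6, 792)]) (Set.toFinite _) card_G ?_ ?_
    (by decide) ?_ ?_ (move23 (by omega) (by omega)) (by decide)
  · exact ⟨h.1, h.2⟩
  · intro g
    refine ⟨⟨?_, ?_⟩, (mem_smul_of_fix (none_of_23 g)).2 hx⟩
    · exact (Cfsg.Agent.S1566.smul_mem_dodecads ⟨g, M24_of_23 g⟩ hd).1
    · exact (Cfsg.Agent.S1566.smul_mem_dodecads ⟨g, M24_of_23 g⟩ hd).2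
  · rintro x ⟨h1, h2⟩ hne
    have h3 : (d ∩ x).card ≠ 0 := by
      rw [Finset.card_ne_zero]
      exact ⟨none, Finset.mem_inter.2 ⟨hx, h2⟩⟩
    rcases Cfsg.Agent.SporadicStructure.DodecadRank.inter_cases hd h1 with h | h | h | h | h
    · exact absurd h h3
    · simp [h]
    · simp [h]
    · simp [h]
    · exact absurd (eq12 x h1 h) hne
  · intro e he
    have key : ∀ k : ℕ, k ≠ 12 → {x : Finset GolayPt | x ∈ {x : Finset GolayPt | x ∈ dodecads ∧ none ∈ x} ∧
        x ≠ d ∧ (d ∩ x).card = k} = {d' : Finset GolayPt | d' ∈ dodecads ∧ none ∈ d' ∧ (d ∩ d').card = k} := by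
      intro k hk
      ext x
      constructor
      · rintro ⟨⟨h1, h2⟩, -, h3⟩
        exact ⟨h1, h2, h3⟩
      · rintro ⟨h1, h2, h3⟩
        refine ⟨⟨h1, h2⟩, ?_, h3⟩
        rintro rfl
        rw [Finset.inter_self, h12] at h3
        exact hk h3.symm
    simp only [List.mem_cons, List.not_mem_nil, or_false] at he
    rcases he with rfl | rfl | rfl
    · rw [key 4 (by norm_num)]; exact n4
    · rw [key 8 (by norm_num)]; exact n8
    · rw [key 6 (by norm_num)]; exact n6
  · rintro x ⟨h1, h2⟩ y ⟨h3, h4⟩ _ _ hxy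
    obtain ⟨g, hg, g1, g2, g3⟩ := tr x y h1 h3 h2 h4 hxy
    exact ⟨mk23 g hg g1, g2, g3⟩

/-- octads avoiding the point, the index is known -/
theorem octad {o : Finset GolayPt} (ho : o ∈ octads) (hx : none ∉ o) :
    IsCoatom (stabilizer Spor.M23 o) ∧ (stabilizer Spor.M23 o).index = 506 := by
  have := fin_G
  have h8 := card8 ho
  have hidx := Cfsg.Agent.H964.NoHall.m23_index ho hx
  obtain ⟨n0, n4, n2, tr⟩ := Cfsg.Agent.S1608.result none o ho hx
  refine ⟨?_, hidx⟩
  have hO : ∀ g : Spor.M23, g • o ∈ {x : Finset GolayPt | x ∈ octads ∧ none ∉ x} := fun g =>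
    ⟨smul_octad (M24_of_23 g) ho, fun h => hx ((mem_smul_of_fix (none_of_23 g)).1 h)⟩
  have key : ∀ k : ℕ, k ≠ 8 → {x : Finset GolayPt | x ∈ {x : Finset GolayPt | x ∈ octads ∧ none ∉ x} ∧
      x ≠ o ∧ (o ∩ x).card = k} = {o' : Finset GolayPt | o' ∈ octads ∧ none ∉ o' ∧ (o ∩ o').card = k} := by
    intro k hk
    ext x
    constructor
    · rintro ⟨⟨h1, h2⟩, -, h3⟩
      exact ⟨h1, h2, h3⟩
    · rintro ⟨h1, h2, h3⟩
      refine ⟨⟨h1, h2⟩, ?_, h3⟩
      rintro rfl
      rw [Finset.inter_self, h8] at h3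
      exact hk h3.symm
  constructor
  · intro h
    rw [h, Subgroup.index_top] at hidx
    norm_num at hidx
  · intro K hK
    obtain ⟨L', hL', h1⟩ := orbit_size (G := Spor.M23) (o := o)
      (O := {x | x ∈ octads ∧ none ∉ x}) (Set.toFinite _) (t := fun x => (o ∩ x).card)
      (L := [(0, 15), (4, 210), (2, 280)]) hO
      (by
        rintro x ⟨h1, _⟩ hne
        rcases inter_octad ho h1 hne with h | h | h <;> simp [h])
      (by decide)
      (by
        intro e he
        simp only [List.mem_cons, List.not_mem_nil, or_false] at he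
        rcases he with rfl | rfl | rfl
        · rw [key 0 (by norm_num)]; exact n0
        · rw [key 4 (by norm_num)]; exact n4
        · rw [key 2 (by norm_num)]; exact n2)
      (by
        rintro x ⟨h1, h2⟩ y ⟨h3, h4⟩ _ _ hxy
        obtain ⟨g, hg, g1, g2, g3⟩ := tr x y h1 h3 h2 h4 hxy
        exact ⟨mk23 g hg g1, g2, g3⟩)
      hK.le
    have h2 := Subgroup.relIndex_mul_index hK.le
    rw [relIndex_eq, h1, hidx] at h2
    have h3 : (1 + (L'.map Prod.snd).sum) ∣ 506 := ⟨_, h2.symm⟩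
    have hc : ∀ L' ∈ List.sublists [((0 : ℕ), (15 : ℕ)), (4, 210), (2, 280)],
        (1 + (L'.map Prod.snd).sum) ∣ 506 →
          1 + (L'.map Prod.snd).sum = 1 ∨ 1 + (L'.map Prod.snd).sum = 506 := by decide
    rcases hc L' hL' h3 with h4 | h4
    · exfalso
      obtain ⟨k, hkK, hk⟩ := SetLike.exists_of_lt hK
      rw [h4, Set.ncard_eq_one] at h1
      obtain ⟨a, ha⟩ := h1
      have h5 : o ∈ orbit K o := mem_orbit_self o
      have h6 : k • o ∈ orbit K o := ⟨⟨k, hkK⟩, rfl⟩
      rw [ha, Set.mem_singleton_iff] at h5 h6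
      exact hk (h6.trans h5.symm)
    · rw [h4] at h2
      rw [← Subgroup.index_eq_one]
      omega

/-- **The row `M23`.** -/
theorem sep : Sep 5 Spor.M23 := by
  have := fin_G
  have : Fact (Nat.Prime 23) := ⟨by norm_num⟩
  have hne : octads.Nonempty := Set.nonempty_of_ncard_ne_zero (by rw [Cfsg.Agent.S0360.result]; norm_num)
  -- an octad through the point and one avoiding it
  obtain ⟨o₀, ho₀⟩ := hne
  have h8 := card8 ho₀
  have hsh : ∀ a b : GolayPt, ∃ g : Equiv.Perm GolayPt, g ∈ M24 ∧ g a = b := by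
    intro a b
    obtain ⟨g, hg⟩ := Cfsg.Agent.SporadicStructure.M23Index253.exists_map Cfsg.Agent.S0366.result
      (by norm_num : 1 ≤ 5) ![a] ![b] (fun i j _ => Subsingleton.elim i j)
      (fun i j _ => Subsingleton.elim i j)
    exact ⟨g, g.2, hg 0⟩
  obtain ⟨⟨c, hc, -⟩, d, hd, -⟩ := exists_in_out (s := o₀) (F := ∅) (by rw [h8]; decide) (by rw [h8]; decide)
  obtain ⟨g, hg, hgc⟩ := hsh c none
  obtain ⟨g', hg', hgd⟩ := hsh d none
  have ho : g • o₀ ∈ octads := smul_octad hg ho₀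
  have hx : none ∈ g • o₀ := (mem_smul_map hgc).2 hc
  have ho' : g' • o₀ ∈ octads := smul_octad hg' ho₀
  have hx' : none ∉ g' • o₀ := fun h => hd ((mem_smul_map hgd).1 h)
  -- a dodecad through the point
  obtain ⟨e₀, he₀⟩ : ∃ e, e ∈ dodecads := Set.nonempty_of_ncard_ne_zero (by rw [Cfsg.Agent.S0361.result]; norm_num)
  obtain ⟨⟨a, ha, -⟩, -⟩ := exists_in_out (s := e₀) (F := ∅) (by rw [he₀.2]; decide) (by rw [he₀.2]; decide)
  obtain ⟨k, hk, hka⟩ := hsh a none
  have he : k • e₀ ∈ dodecads := Cfsg.Agent.S1566.smul_mem_dodecads ⟨k, hk⟩ he₀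
  have hxe : none ∈ k • e₀ := (mem_smul_map hka).2 ha
  obtain ⟨c1, i1⟩ := point
  obtain ⟨c2, i2⟩ := heptad ho hx
  obtain ⟨c3, i3⟩ := octad ho' hx'
  obtain ⟨c4, i4⟩ := dodecad he hxe
  obtain ⟨x, hxo⟩ := exists_prime_orderOf_dvd_card' (G := Spor.M23) 23 (by rw [card_G]; norm_num)
  have hR : Nat.card (Subgroup.zpowers x) = 23 := by rw [Nat.card_zpowers, hxo]
  have hRt : Subgroup.zpowers x ≠ ⊤ := by
    intro h
    rw [h, Subgroup.card_top, card_G] at hR
    norm_num at hR
  exact sep_five c1.1 c2.1 c3.1 c4.1 hRt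
    (apart_of_index c1 c2 i1 i2 (by norm_num)) (apart_of_index c1 c3 i1 i3 (by norm_num))
    (apart_of_index c1 c4 i1 i4 (by norm_num)) (apart_of_card card_G c1 i1 hR (by norm_num))
    (apart_of_index c2 c3 i2 i3 (by norm_num)) (apart_of_index c2 c4 i2 i4 (by norm_num))
    (apart_of_card card_G c2 i2 hR (by norm_num)) (apart_of_index c3 c4 i3 i4 (by norm_num))
    (apart_of_card card_G c3 i3 hR (by norm_num)) (apart_of_card card_G c4 i4 hR (by norm_num))

end Cfsg.Agent.H867.Max.MTwentyThree
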