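import Cfsg.Agent.H867.Max.Sub
import Cfsg.Agent.SporadicStructure.M23Index253
import Cfsg.Agent.SporadicA.Steiner24Basic
import Cfsg.Agent.SporadicA.MathieuRecog
import Cfsg.Agent.S0363
import Cfsg.Agent.S0366
import Cfsg.Agent.S0367
import Cfsg.Prelude.Def_Spor_Mathieu

/-!
# Octads, elements of `M23` and `M22` with given values
-/

set_option autoImplicit false

open scoped Pointwise

namespace Cfsg.Agent.H867.Max.Oct

open Cfsg MulAction
open Cfsg.Agent.SporadicStructure.M23Index253 (exists_map)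

theorem card8 {o : Finset GolayPt} (ho : o ∈ octads) : o.card = 8 := Cfsg.Agent.S0363.result.1 o ho

theorem inter_octad {o x : Finset GolayPt} (ho : o ∈ octads) (hx : x ∈ octads) (hne : x ≠ o) :
    (o ∩ x).card = 0 ∨ (o ∩ x).card = 2 ∨ (o ∩ x).card = 4 := by
  have h := Cfsg.Agent.SporadicA.Steiner24Basic.inter_card (α := GolayPt) (by decide)
    Cfsg.Agent.S0363.result ho hx (Ne.symm hne)
  tauto

theorem smul_octad {g : Equiv.Perm GolayPt} (hg : g ∈ M24) {o : Finset GolayPt} (ho : o ∈ octads) :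
    g • o ∈ octads :=
  Cfsg.Agent.S0367.smul_mem_octads ⟨g, hg⟩ o ho

theorem mem_smul_of_fix {g : Equiv.Perm GolayPt} {a : GolayPt} (h : g a = a) {o : Finset GolayPt} :
    a ∈ g • o ↔ a ∈ o := by
  rw [Finset.mem_smul_finset]
  constructor
  · rintro ⟨b, hb, hba⟩
    have h1 : g b = g a := hba.trans h.symm
    rwa [g.injective h1] at hb
  · intro ha
    exact ⟨a, ha, h⟩

theorem mem_smul_map {g : Equiv.Perm GolayPt} {a b : GolayPt} (h : g a = b) {o : Finset GolayPt} :
    b ∈ g • o ↔ a ∈ o := by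
  rw [Finset.mem_smul_finset]
  constructor
  · rintro ⟨c, hc, hcb⟩
    have h1 : g c = g a := hcb.trans h.symm
    rwa [g.injective h1] at hc
  · intro ha
    exact ⟨a, ha, h⟩

/-- three points -/
theorem map3 {a b c a' b' c' : GolayPt} (hab : a ≠ b) (hac : a ≠ c) (hbc : b ≠ c)
    (hab' : a' ≠ b') (hac' : a' ≠ c') (hbc' : b' ≠ c') :
    ∃ g : Equiv.Perm GolayPt, g ∈ M24 ∧ g a = a' ∧ g b = b' ∧ g c = c' := by
  obtain ⟨g, hg⟩ := exists_map Cfsg.Agent.S0366.result (by norm_num : 3 ≤ 5) ![a, b, c] ![a', b', c']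
    (by
      intro i j; fin_cases i <;> fin_cases j <;>
        simp [hab, hac, hbc, hab.symm, hac.symm, hbc.symm])
    (by
      intro i j; fin_cases i <;> fin_cases j <;>
        simp [hab', hac', hbc', hab'.symm, hac'.symm, hbc'.symm])
  exact ⟨g, g.2, hg 0, hg 1, hg 2⟩

/-- four points -/
theorem map4 {a b c d a' b' c' d' : GolayPt} (hab : a ≠ b) (hac : a ≠ c) (had : a ≠ d) (hbc : b ≠ c)
    (hbd : b ≠ d) (hcd : c ≠ d) (hab' : a' ≠ b') (hac' : a' ≠ c') (had' : a' ≠ d') (hbc' : b' ≠ c')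
    (hbd' : b' ≠ d') (hcd' : c' ≠ d') :
    ∃ g : Equiv.Perm GolayPt, g ∈ M24 ∧ g a = a' ∧ g b = b' ∧ g c = c' ∧ g d = d' := by
  obtain ⟨g, hg⟩ := exists_map Cfsg.Agent.S0366.result (by norm_num : 4 ≤ 5) ![a, b, c, d]
    ![a', b', c', d']
    (by
      intro i j; fin_cases i <;> fin_cases j <;>
        simp [hab, hac, had, hbc, hbd, hcd, hab.symm, hac.symm, had.symm, hbc.symm, hbd.symm, hcd.symm])
    (by
      intro i j; fin_cases i <;> fin_cases j <;>
        simp [hab', hac', had', hbc', hbd', hcd', hab'.symm, hac'.symm, had'.symm, hbc'.symm,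
          hbd'.symm, hcd'.symm])
  exact ⟨g, g.2, hg 0, hg 1, hg 2, hg 3⟩

/-- elements of `M23` -/
def mk23 (g : Equiv.Perm GolayPt) (hg : g ∈ M24) (h : g none = none) : Spor.M23 :=
  ⟨g, Subgroup.mem_inf.2 ⟨hg, mem_stabilizer_iff.2 h⟩⟩

theorem M24_of_23 (g : Spor.M23) : (g : Equiv.Perm GolayPt) ∈ M24 := (Subgroup.mem_inf.1 g.2).1

theorem none_of_23 (g : Spor.M23) : (g : Equiv.Perm GolayPt) none = none :=
  mem_stabilizer_iff.1 (Subgroup.mem_inf.1 g.2).2

/-- elements of `M22` -/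
def mk22 (g : Equiv.Perm GolayPt) (hg : g ∈ M24) (h : g none = none) (h0 : g (some 0) = some 0) : Spor.M22 :=
  ⟨g, Subgroup.mem_inf.2 ⟨Subgroup.mem_inf.2 ⟨hg, mem_stabilizer_iff.2 h⟩, mem_stabilizer_iff.2 h0⟩⟩

theorem M24_of_22 (g : Spor.M22) : (g : Equiv.Perm GolayPt) ∈ M24 :=
  (Subgroup.mem_inf.1 (Subgroup.mem_inf.1 g.2).1).1

theorem none_of_22 (g : Spor.M22) : (g : Equiv.Perm GolayPt) none = none :=
  mem_stabilizer_iff.1 (Subgroup.mem_inf.1 (Subgroup.mem_inf.1 g.2).1).2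

theorem zero_of_22 (g : Spor.M22) : (g : Equiv.Perm GolayPt) (some 0) = some 0 :=
  mem_stabilizer_iff.1 (Subgroup.mem_inf.1 g.2).2

/-- an element of a set of points and a point outside, both different from the given ones -/
theorem exists_in_out {s F : Finset GolayPt} (h1 : F.card < s.card) (h2 : s.card + F.card < 24) :
    (∃ c ∈ s, c ∉ F) ∧ ∃ d, d ∉ s ∧ d ∉ F := by
  constructor
  · by_contra h
    push Not at h
    have := Finset.card_le_card (show s ⊆ F from h)
    omega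
  · by_contra h
    push Not at h
    have h3 : (Finset.univ : Finset GolayPt) ⊆ s ∪ F := by
      intro d _
      rw [Finset.mem_union]
      by_cases hd : d ∈ s
      · exact Or.inl hd
      · exact Or.inr (h d hd)
    have h4 := Finset.card_le_card h3
    have h5 := Finset.card_union_le s F
    have h6 : (Finset.univ : Finset GolayPt).card = 24 := by decide
    omega

/-- an element of `M23` moving a set of points -/
theorem move23 {s : Finset GolayPt} (h1 : 1 < s.card) (h2 : s.card < 23) : ∃ g : Spor.M23, g • s ≠ s := by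
  obtain ⟨⟨c, hc, hcF⟩, d, hd, hdF⟩ := exists_in_out (s := s) (F := {none}) (by rw [Finset.card_singleton]; exact h1)
    (by rw [Finset.card_singleton]; omega)
  rw [Finset.mem_singleton] at hcF hdF
  have hcd : c ≠ d := fun h => hd (h ▸ hc)
  obtain ⟨g, hg, g1, g2, -⟩ := map3 (a := none) (b := c) (c := d) (a' := none) (b' := d) (c' := c)
    (Ne.symm hcF) (Ne.symm hdF) hcd (Ne.symm hdF) (Ne.symm hcF) hcd.symm
  refine ⟨mk23 g hg g1, fun h => hd ?_⟩
  have h3 : d ∈ g • s := (mem_smul_map g2).2 hc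
  have h4 : g • s = s := h
  rwa [h4] at h3

/-- an element of `M22` moving a set of points -/
theorem move22 {s : Finset GolayPt} (h1 : 2 < s.card) (h2 : s.card < 22) : ∃ g : Spor.M22, g • s ≠ s := by
  have h0 : (none : GolayPt) ≠ some 0 := by simp
  obtain ⟨⟨c, hc, hcF⟩, d, hd, hdF⟩ := exists_in_out (s := s) (F := {none, some 0})
    (by rw [Finset.card_pair h0]; exact h1) (by rw [Finset.card_pair h0]; omega)
  rw [Finset.mem_insert, Finset.mem_singleton, not_or] at hcF hdF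
  have hcd : c ≠ d := fun h => hd (h ▸ hc)
  obtain ⟨g, hg, g1, g2, g3, -⟩ := map4 (a := none) (b := some 0) (c := c) (d := d) (a' := none)
    (b' := some 0) (c' := d) (d' := c) h0 (Ne.symm hcF.1) (Ne.symm hdF.1) (Ne.symm hcF.2)
    (Ne.symm hdF.2) hcd h0 (Ne.symm hdF.1) (Ne.symm hcF.1) (Ne.symm hdF.2) (Ne.symm hcF.2) hcd.symm
  refine ⟨mk22 g hg g1 g2, fun h => hd ?_⟩
  have h3 : d ∈ g • s := (mem_smul_map g3).2 hc
  have h4 : g • s = s := h
  rwa [h4] at h3

end Cfsg.Agent.H867.Max.Oct
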