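import Mathlib
import Cfsg.Agent.H940.MaxCls

/-!
# Maximality of a stabiliser from the sizes of its orbits
-/

set_option autoImplicit false

namespace Cfsg.Agent.H867.Max.Sub

open MulAction Cfsg.Agent.H940.MaxCls

open scoped Classical in
theorem count {X : Type*} (o : X) (O B : Set X) (hfin : O.Finite) (hB : B ⊆ O) (t : X → ℕ) :
    ∀ (L : List (ℕ × ℕ)), (L.map Prod.fst).Nodup →
      (∀ e ∈ L, {x | x ∈ O ∧ x ≠ o ∧ t x = e.1}.ncard = e.2) →
      (∀ e ∈ L, (∀ x ∈ O, x ≠ o → t x = e.1 → x ∈ B) ∨ (∀ x ∈ B, x ≠ o → t x ≠ e.1)) →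
      {x | x ∈ B ∧ x ≠ o ∧ t x ∈ L.map Prod.fst}.ncard =
        ((L.filter fun e => decide (∀ x ∈ O, x ≠ o → t x = e.1 → x ∈ B)).map Prod.snd).sum := by
  intro L
  induction L with
  | nil =>
    intro _ _ _
    simp
  | cons e L ih =>
    intro hnd hL hd
    have hBf : B.Finite := hfin.subset hB
    rw [List.map_cons, List.nodup_cons] at hnd
    have ih' := ih hnd.2 (fun e' he' => hL e' (List.mem_cons_of_mem _ he'))
      (fun e' he' => hd e' (List.mem_cons_of_mem _ he'))
    have hU : {x | x ∈ B ∧ x ≠ o ∧ t x ∈ (e :: L).map Prod.fst} =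
        {x | x ∈ B ∧ x ≠ o ∧ t x = e.1} ∪ {x | x ∈ B ∧ x ≠ o ∧ t x ∈ L.map Prod.fst} := by
      ext x
      simp only [List.map_cons, List.mem_cons, Set.mem_setOf_eq, Set.mem_union]
      tauto
    have hdis : Disjoint {x | x ∈ B ∧ x ≠ o ∧ t x = e.1} {x | x ∈ B ∧ x ≠ o ∧ t x ∈ L.map Prod.fst} := by
      rw [Set.disjoint_left]
      rintro x ⟨_, _, h1⟩ ⟨_, _, h2⟩
      rw [h1] at h2
      exact hnd.1 h2
    rw [hU, Set.ncard_union_eq hdis (hBf.subset fun x hx => hx.1) (hBf.subset fun x hx => hx.1), ih']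
    by_cases hP : ∀ x ∈ O, x ≠ o → t x = e.1 → x ∈ B
    · rw [List.filter_cons_of_pos (by simpa using hP), List.map_cons, List.sum_cons]
      congr 1
      rw [← hL e List.mem_cons_self]
      congr 1
      ext x
      exact ⟨fun h => ⟨hB h.1, h.2⟩, fun h => ⟨hP x h.1 h.2.1 h.2.2, h.2⟩⟩
    · rw [List.filter_cons_of_neg (by simpa using hP)]
      have h0 : {x | x ∈ B ∧ x ≠ o ∧ t x = e.1} = ∅ := by
        ext x
        simp only [Set.mem_setOf_eq, Set.mem_empty_iff_false, iff_false]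
        rintro ⟨h1, h2, h3⟩
        exact ((hd e List.mem_cons_self).resolve_left hP) x h1 h2 h3
      rw [h0, Set.ncard_empty, zero_add]

variable {G X : Type*} [Group G] [Finite G] [MulAction G X]

/-- the orbit of `o` under an overgroup of its stabiliser -/
theorem orbit_size {o : X} {O : Set X} (hfin : O.Finite) {t : X → ℕ} {L : List (ℕ × ℕ)}
    (hO : ∀ g : G, g • o ∈ O) (ht : ∀ x ∈ O, x ≠ o → t x ∈ L.map Prod.fst)
    (hnd : (L.map Prod.fst).Nodup) (hL : ∀ e ∈ L, {x | x ∈ O ∧ x ≠ o ∧ t x = e.1}.ncard = e.2)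
    (htr : ∀ x ∈ O, ∀ y ∈ O, x ≠ o → y ≠ o → t x = t y → ∃ g : G, g • o = o ∧ g • x = y)
    {K : Subgroup G} (hK : stabilizer G o ≤ K) :
    ∃ L' ∈ L.sublists, (orbit K o).ncard = 1 + (L'.map Prod.snd).sum := by
  classical
  have hB : orbit K o ⊆ O := by
    rintro _ ⟨k, rfl⟩
    exact hO k
  refine ⟨L.filter fun e => decide (∀ x ∈ O, x ≠ o → t x = e.1 → x ∈ orbit K o),
    List.mem_sublists.2 List.filter_sublist, ?_⟩
  rw [← count o O (orbit K o) hfin hB t L hnd hL ?_]
  · have h1 : orbit K o = insert o {x | x ∈ orbit K o ∧ x ≠ o ∧ t x ∈ L.map Prod.fst} := by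
      ext x
      rw [Set.mem_insert_iff]
      constructor
      · intro hx
        by_cases hxo : x = o
        · exact Or.inl hxo
        · exact Or.inr ⟨hx, hxo, ht x (hB hx) hxo⟩
      · rintro (rfl | hx)
        · exact mem_orbit_self x
        · exact hx.1
    conv_lhs => rw [h1]
    rw [Set.ncard_insert_of_notMem (fun h => h.2.1 rfl) ((hfin.subset hB).subset fun x hx => hx.1),
      add_comm]
  · intro e _
    by_cases h : ∃ x ∈ orbit K o, x ≠ o ∧ t x = e.1
    · left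
      obtain ⟨x, hx, hxo, hxt⟩ := h
      intro y hy hyo hyt
      obtain ⟨g, hg1, hg2⟩ := htr x (hB hx) y hy hxo hyo (hxt.trans hyt.symm)
      obtain ⟨k, rfl⟩ := hx
      refine ⟨⟨g, hK (mem_stabilizer_iff.2 hg1)⟩ * k, ?_⟩
      rw [← hg2]
      exact mul_smul _ _ _
    · right
      intro x hx hxo hxt
      exact h ⟨x, hx, hxo, hxt⟩

theorem relIndex_eq {o : X} (K : Subgroup G) :
    (stabilizer G o).relIndex K = (orbit K o).ncard := by
  rw [← index_stabilizer]
  rfl

/-- **Maximality from the suborbit sizes.** -/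
theorem coatom_of_classes {o : X} {O : Set X} (hfin : O.Finite) {t : X → ℕ} {L : List (ℕ × ℕ)} {n : ℕ}
    (hn : Nat.card G = n) (hO : ∀ g : G, g • o ∈ O) (ht : ∀ x ∈ O, x ≠ o → t x ∈ L.map Prod.fst)
    (hnd : (L.map Prod.fst).Nodup) (hL : ∀ e ∈ L, {x | x ∈ O ∧ x ≠ o ∧ t x = e.1}.ncard = e.2)
    (htr : ∀ x ∈ O, ∀ y ∈ O, x ≠ o → y ≠ o → t x = t y → ∃ g : G, g • o = o ∧ g • x = y)
    (hne : ∃ g : G, g • o ≠ o)
    (hc : ∀ L' ∈ L.sublists, (1 + (L'.map Prod.snd).sum) ∣ n → L' = [] ∨ L' = L) :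
    IsCoatom (stabilizer G o) ∧ (stabilizer G o).index = 1 + (L.map Prod.snd).sum := by
  have key : ∀ K : Subgroup G, stabilizer G o ≤ K → (∃ k ∈ K, k • o ≠ o) →
      (stabilizer G o).relIndex K = 1 + (L.map Prod.snd).sum := by
    intro K hK ⟨k, hkK, hk⟩
    obtain ⟨L', hL', h1⟩ := orbit_size hfin hO ht hnd hL htr hK
    have h2 : (orbit K o).ncard ∣ n := by
      rw [← relIndex_eq, ← hn]
      exact (Subgroup.index_dvd_card _).trans (Subgroup.card_subgroup_dvd_card K)
    rw [h1] at h2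
    rcases hc L' hL' h2 with rfl | rfl
    · exfalso
      rw [List.map_nil, List.sum_nil, add_zero, Set.ncard_eq_one] at h1
      obtain ⟨a, ha⟩ := h1
      have h3 : o ∈ orbit K o := mem_orbit_self o
      have h4 : k • o ∈ orbit K o := ⟨⟨k, hkK⟩, rfl⟩
      rw [ha, Set.mem_singleton_iff] at h3 h4
      exact hk (h4.trans h3.symm)
    · rw [relIndex_eq, h1]
  have hidx : (stabilizer G o).index = 1 + (L.map Prod.snd).sum := by
    obtain ⟨g, hg⟩ := hne
    rw [← Subgroup.relIndex_top_right]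
    exact key ⊤ le_top ⟨g, Subgroup.mem_top g, hg⟩
  refine ⟨⟨?_, ?_⟩, hidx⟩
  · intro h
    obtain ⟨g, hg⟩ := hne
    have : g ∈ stabilizer G o := by rw [h]; exact Subgroup.mem_top g
    exact hg this
  · intro K hK
    obtain ⟨k, hkK, hk⟩ := SetLike.exists_of_lt hK
    have h1 := key K hK.le ⟨k, hkK, fun h => hk h⟩
    have h2 := Subgroup.relIndex_mul_index hK.le
    rw [h1, hidx] at h2
    rw [← Subgroup.index_eq_one]
    exact Nat.eq_of_mul_eq_mul_left (show 0 < 1 + (L.map Prod.snd).sum by omega)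
      (h2.trans (mul_one _).symm)

/-- maximal subgroups of different index are apart -/
theorem apart_of_index {A B : Subgroup G} {a b : ℕ}
    (hA : IsCoatom A) (hB : IsCoatom B) (ha : A.index = a) (hb : B.index = b) (h : a ≠ b) :
    Apart A B := by
  refine apart_of_coatoms hA hB fun hc => h ?_
  have h1 := A.card_mul_index
  have h2 := B.card_mul_index
  rw [hc, ← h2] at h1
  rw [← ha, ← hb]
  exact Nat.eq_of_mul_eq_mul_left Nat.card_pos h1

/-- a maximal subgroup is apart from a subgroup whose order does not divide its order -/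
theorem apart_of_card {A B : Subgroup G} {n i r : ℕ} (hn : Nat.card G = n) (hA : IsCoatom A)
    (hi : A.index = i) (hr : Nat.card B = r) (h : ¬ (r * i ∣ n)) : Apart A B := by
  intro g K h1 h2
  by_contra hK
  have hKA : A = K := by
    rcases eq_or_lt_of_le h1 with h3 | h3
    · exact h3
    · exact absurd (hA.2 K h3) hK
  apply h
  have h3 : Nat.card B ∣ Nat.card A := by
    rw [hKA, ← card_map_conj g B]
    exact Subgroup.card_dvd_of_le (map_conj_le h2)
  rw [← hn, ← A.card_mul_index, hi, ← hr]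
  exact Nat.mul_dvd_mul_right h3 i

end Cfsg.Agent.H867.Max.Sub
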